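import Groth.Agent.IntMultLib.Components
import Groth.Agent.BlowPtLib.Plane
import Groth.Agent.CurveDualLib.Family
import Groth.Agent.AmpleDevLib.Pull
import Groth.Agent.PicPnLib.Rel
import Groth.Agent.PicOneLib.Twist

/-!
# Euler characteristics on the thickenings of an effective Cartier divisor
-/

set_option autoImplicit false
set_option linter.style.haveILetI false
set_option backward.isDefEq.respectTransparency false
set_option backward.isDefEq.respectTransparency.types false
universe u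

open CategoryTheory CategoryTheory.Limits AlgebraicGeometry
open KFlatLib (pb)

noncomputable section

namespace JetDegLib

variable (k : Type u) [Field k] {X P : Scheme.{u}} [X.Over (Spec (CommRingCat.of k))]
  [P.Over (Spec (CommRingCat.of k))] [IsProper (X ↘ Spec (CommRingCat.of k))]
  [IsProper (P ↘ Spec (CommRingCat.of k))]

/-- A closed subscheme, tensored with a line, computed on its source. -/
theorem euler_quot_closedImm (δ : X ⟶ P) [IsClosedImmersion δ]
    (hδ : δ ≫ (P ↘ Spec (CommRingCat.of k)) = X ↘ Spec (CommRingCat.of k)) {E : P.Modules}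
    (hE : PicF.IsInvertible E) :
    Curv2.euler k P (CohB1.tensorMod (ClSub.quotMod δ.ker) E) = Curv2.euler k X (pb δ E) := by
  letI : δ.ker.subscheme.Over (Spec (CommRingCat.of k)) := ⟨δ.ker.subschemeι ≫ (P ↘ Spec (CommRingCat.of k))⟩
  let J := δ.ker
  have hJ : pb J.subschemeι E = (Scheme.Modules.pullback J.subschemeι).obj E := rfl
  haveI := (CurvLib.isCoh_of_isInvertible hE).1
  haveI : Coh.IsQCoh (pb J.subschemeι E) := TwistLib.isQCoh_of_isInvertible (AmpleDevLib.isInvertible_pb J.subschemeι hE)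
  haveI : Coh.IsQCoh (Coh.structureModule J.subscheme) := QCohLib.isQCoh_unit
  let pr := @asIso _ _ _ _ (ProjFormLib.projApp J.subschemeι E (Coh.structureModule J.subscheme))
    (ProjFormLib.isIso_projApp J.subschemeι (CurveVBLib.isFinLocFree_of_rank (CurvLib.locFree_of_isInvertible hE)) _)
  have h3 : Curv2.euler k P (CohB1.tensorMod (ClSub.quotMod J) E) =
      Curv2.euler k P ((Coh.push J.subschemeι).obj (pb J.subschemeι E)) :=
    CurvLib.euler_congr (HilbPolyLib.swapIso _ _ ≪≫ pr ≪≫ (Coh.push J.subschemeι).mapIso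
      (HilbPolyLib.swapIso _ _ ≪≫ HilbPolyLib.unitLeft _))
  have hti : δ.toImage ≫ J.subschemeι = δ := δ.toImage_imageι
  have hφ : δ.toImage ≫ (J.subscheme ↘ Spec (CommRingCat.of k)) = X ↘ Spec (CommRingCat.of k) := by
    show δ.toImage ≫ J.subschemeι ≫ _ = _
    rw [← Category.assoc, hti, hδ]
  rw [h3, ← (PushLinLib.euler_push k J.subschemeι rfl (pb J.subschemeι E)).2,
    ← BlowPtLib.euler_pb_iso δ.toImage hφ (pb J.subschemeι E)]
  exact CurvLib.euler_congr ((Scheme.Modules.pullbackComp δ.toImage J.subschemeι).app E ≪≫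
    (Scheme.Modules.pullbackCongr hti).app E)

variable {δ : X ⟶ P} [IsClosedImmersion δ] (hδ : δ ≫ (P ↘ Spec (CommRingCat.of k)) = X ↘ Spec (CommRingCat.of k))
  (hJ : BlowUp.IsEffCartierIdeal δ.ker) {F : P.Modules} (hF : PicF.IsInvertible F)

include hF in
theorem euler_idealSeq (I : P.IdealSheafData) (hI : BlowUp.IsEffCartierIdeal I) {G : P.Modules} (hG : PicF.IsInvertible G) :
    Curv2.euler k P (CohB1.tensorMod (ClSub.quotMod I) G) =
      Curv2.euler k P G - Curv2.euler k P (CohB1.tensorMod (ClSub.idealMod I) G) := by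
  haveI : IsNoetherian P := CurvLib.isNoetherian k (X := P)
  have hG1 := CurvLib.locFree_of_isInvertible hG
  have hS := CurvLib.shortExact_tensor_locFree hG1 (CurvLib.idealSeq_shortExact I)
  have c1 : Coh.IsCoh (ClSub.idealMod I) :=
    CurvLib.isCoh_of_isInvertible (IntMultLib.isInvertible_idealMod _ hI)
  have h := CurvLib.euler_add_of_isCoh (k := k) hS
    (QCohLib.isCoh_of_iso (HilbPolyLib.swapIso _ _) (IntMultLib.isCoh_tensor_locFree hG1 c1))
    (QCohLib.isCoh_of_iso (HilbPolyLib.swapIso _ _) (IntMultLib.isCoh_tensor_locFree hG1 (DevissLib.isCoh_structureModule P)))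
    (QCohLib.isCoh_of_iso (HilbPolyLib.swapIso _ _) (IntMultLib.isCoh_tensor_locFree hG1 (CurvLib.isCoh_quotMod I)))
  have e1 : Curv2.euler k P (CohB1.tensorMod G (ClSub.idealMod I)) = _ := CurvLib.euler_congr (HilbPolyLib.swapIso _ _)
  have e2 : Curv2.euler k P (CohB1.tensorMod G (Coh.structureModule P)) = Curv2.euler k P G :=
    CurvLib.euler_congr (HilbPolyLib.swapIso _ _ ≪≫ HilbPolyLib.unitLeft _)
  have e3 : Curv2.euler k P (CohB1.tensorMod G (ClSub.quotMod I)) = _ := CurvLib.euler_congr (HilbPolyLib.swapIso _ _)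
  change Curv2.euler k P (CohB1.tensorMod G (Coh.structureModule P)) =
    Curv2.euler k P (CohB1.tensorMod G (ClSub.idealMod I)) +
      Curv2.euler k P (CohB1.tensorMod G (ClSub.quotMod I)) at h
  rw [e1, e2, e3] at h
  linarith

include hδ hJ hF in
/-- The thickenings of the divisor, graded. -/
theorem euler_quot_pow : ∀ m : ℕ,
    Curv2.euler k P (CohB1.tensorMod (ClSub.quotMod (δ.ker ^ m)) F) =
      ∑ n ∈ Finset.range m, Curv2.euler k X
        (CohB1.tensorMod (CohB1.tensorPow (pb δ (ClSub.idealMod δ.ker)) n) (pb δ F))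
  | 0 => by
    rw [Finset.range_zero, Finset.sum_empty, euler_idealSeq k hF _ (BlowPtLib.nonempty_idealMod_pow δ.ker hJ 0).1 hF]
    obtain ⟨-, ⟨e⟩⟩ := BlowPtLib.nonempty_idealMod_pow δ.ker hJ 0
    have h0 : Curv2.euler k P (CohB1.tensorMod (ClSub.idealMod (δ.ker ^ 0)) F) = Curv2.euler k P F :=
      CurvLib.euler_congr (HilbPolyLib.congrLeft e.symm F ≪≫ HilbPolyLib.unitLeft F)
    rw [h0]
    ring
  | m + 1 => by
    obtain ⟨hm, ⟨em⟩⟩ := BlowPtLib.nonempty_idealMod_pow δ.ker hJ m
    obtain ⟨mu⟩ := SurfNumLib.nonempty_idealMod_mul hJ hm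
    let G := CohB1.tensorMod (ClSub.idealMod (δ.ker ^ m)) F
    have hG : PicF.IsInvertible G := HilbPolyLib.isInvertible_tensor (IntMultLib.isInvertible_idealMod _ hm) hF
    rw [Finset.sum_range_succ, ← euler_quot_pow m, euler_idealSeq k hF (δ.ker ^ m) hm hF,
      euler_idealSeq k hF (δ.ker ^ (m + 1)) (BlowPtLib.nonempty_idealMod_pow δ.ker hJ (m + 1)).1 hF]
    have h1 : Curv2.euler k P (CohB1.tensorMod (ClSub.idealMod δ.ker) G) =
        Curv2.euler k P (CohB1.tensorMod (ClSub.idealMod (δ.ker ^ (m + 1))) F) :=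
      CurvLib.euler_congr ((HilbPolyLib.assocIso _ _ _).symm ≪≫ HilbPolyLib.congrLeft mu F ≪≫
        HilbPolyLib.congrLeft (eqToIso (congrArg ClSub.idealMod (pow_succ' δ.ker m).symm)) F)
    obtain ⟨ep⟩ := CurveDualLib.nonempty_pb_tensorPow δ (ClSub.idealMod δ.ker) m
    have h2 : Curv2.euler k X (pb δ G) = Curv2.euler k X
        (CohB1.tensorMod (CohB1.tensorPow (pb δ (ClSub.idealMod δ.ker)) m) (pb δ F)) :=
      CurvLib.euler_congr (PicPnLib.pullTens δ _ _ ≪≫
        HilbPolyLib.congrLeft ((Scheme.Modules.pullback δ).mapIso em.symm ≪≫ ep) _)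
    rw [← h2, ← euler_quot_closedImm k δ hδ hG, euler_idealSeq k hF δ.ker hJ hG, h1]
    ring

end JetDegLib

end
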