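import Groth.Prelude.Def_OmegaPn
import Groth.Agent.JetDegLib.Step
import Groth.Agent.RelDualLib.Bundle
import Groth.Agent.GenusZeroLib.Degrees
import Groth.Agent.PrinPartLib.GrFlat
import Groth.Agent.PrinPartLib.BaseChange
import Groth.Agent.PrinPartLib.Proj
import Groth.Agent.FibDimLib.FieldExt
import Groth.Agent.BlowUpLib.Cartier
import Groth.Agent.S2431

/-!
# The degree of the principal parts of a line bundle on a curve
-/

set_option autoImplicit false
set_option linter.style.haveILetI false
set_option backward.isDefEq.respectTransparency false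
set_option backward.isDefEq.respectTransparency.types false
set_option maxHeartbeats 800000
universe u

open CategoryTheory CategoryTheory.Limits AlgebraicGeometry
open KFlatLib (pb)

noncomputable section

namespace JetDegLib

theorem coborderRange_eq_top {X Y : Scheme.{u}} (i : X ⟶ Y) [IsClosedImmersion i] : i.coborderRange = ⊤ := by
  refine top_le_iff.1 fun z _ => ?_
  show z ∈ coborder (Set.range i)
  rw [i.isClosedEmbedding.isClosed_range.coborder_eq]
  trivial

variable (k : Type u) [Field k] {X : Scheme.{u}} [X.Over (Spec (CommRingCat.of k))]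
  [IsIntegral X] [IsProper (X ↘ (Spec (CommRingCat.of k)))]

theorem geometricallyConnected_of_h0 (h0 : Module.finrank k (Coh.HH X (Coh.structureModule X) 0) = 1) :
    GeometricallyConnected (X ↘ (Spec (CommRingCat.of k))) := by
  let p := X ↘ (Spec (CommRingCat.of k))
  letI := GenusZeroLib.kmod k (X := X) (Coh.structureModule X)
  rw [(GenusZeroLib.e0k k (Coh.structureModule X)).finrank_eq] at h0
  let F := (Scheme.ΓSpecIso (CommRingCat.of k)).inv ≫ p.appTop
  haveI : Nontrivial Γ(X, ⊤) := inferInstance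
  let φ : k →ₗ[k] Γ(Coh.structureModule X, ⊤) :=
    { toFun := fun r => (show Γ(Coh.structureModule X, ⊤) from F.hom r)
      map_add' := fun a b => map_add F.hom a b
      map_smul' := fun a b => map_mul F.hom a b }
  have hi : Function.Injective φ := F.hom.injective
  haveI : Module.Finite k Γ(Coh.structureModule X, ⊤) := Module.finite_of_finrank_eq_succ h0
  have hb : Function.Bijective F.hom := ⟨hi, (LinearMap.injective_iff_surjective_of_finrank_eq_finrank
    (by rw [Module.finrank_self, h0])).1 hi⟩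
  haveI : IsIso F := (ConcreteCategory.isIso_iff_bijective F).2 hb
  haveI : IsIso p.appTop := IsIso.of_isIso_comp_left (Scheme.ΓSpecIso (CommRingCat.of k)).inv _
  haveI : Unique (Spec (CommRingCat.of k)) := inferInstanceAs (Unique (PrimeSpectrum k))
  refine (Groth.Agent.S2431.result p fun U => ?_).2
  by_cases hU : (default : Spec (CommRingCat.of k)) ∈ U
  · obtain rfl : U = ⊤ := top_le_iff.1 fun z _ => by rw [Subsingleton.elim z default]; exact hU
    infer_instance
  · obtain rfl : U = ⊥ := le_bot_iff.1 fun z hz => by rw [Subsingleton.elim z default] at hz; exact (hU hz).elim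
    haveI : Subsingleton Γ(X, p ⁻¹ᵁ ⊥) := CommRingCat.subsingleton_of_isTerminal
      (X.sheaf.isTerminalOfEqEmpty (by simp))
    haveI : Subsingleton Γ(Spec (CommRingCat.of k), ⊥) := CommRingCat.subsingleton_of_isTerminal
      ((Spec (CommRingCat.of k)).sheaf.isTerminalOfEqEmpty rfl)
    exact (ConcreteCategory.isIso_iff_bijective _).2
      ⟨fun a b _ => Subsingleton.elim a b, fun b => ⟨0, Subsingleton.elim _ _⟩⟩

/-- `2 (1 + ... + m) = m (m + 1)`. -/
theorem two_mul_sum (m : ℕ) : ∑ n ∈ Finset.range (m + 1), (n : ℤ) = ((m * (m + 1) / 2 : ℕ) : ℤ) := by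
  rw [← Nat.cast_sum, Finset.sum_range_id]
  rw [Nat.mul_comm (m + 1)]
  simp

variable [Smooth (X ↘ (Spec (CommRingCat.of k)))] (hdim : topologicalKrullDim X = 1)

include hdim in
theorem deg_PMod (h0 : Module.finrank k (Coh.HH X (Coh.structureModule X) 0) = 1)
    (L : X.Modules) (hL : PicF.IsInvertible L) (m : ℕ) :
    Curv2.deg k X (PrinPart.PMod (X ↘ (Spec (CommRingCat.of k))) m L) (m + 1) =
      (m + 1 : ℤ) * Curv2.deg k X L 1 +
        (2 * (Curv2.genus k X : ℤ) - 2) * ((m * (m + 1) / 2 : ℕ) : ℤ) := by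
  let f := X ↘ (Spec (CommRingCat.of k))
  haveI := geometricallyConnected_of_h0 k h0
  let Δ := pullback.diagonal f
  haveI : IsClosedImmersion Δ := inferInstance
  haveI : Smooth (pullback.fst f f) := MorphismProperty.pullback_fst f f inferInstance
  haveI : GeometricallyConnected (pullback.fst f f) := MorphismProperty.pullback_fst f f inferInstance
  have hfib : ∀ s : Spec (CommRingCat.of k), topologicalKrullDim ↥(f.fiber s) = 1 := fun s => by
    have hr : Set.range (f.fiberι s) = Set.univ := by
      rw [Scheme.Hom.range_fiberι]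
      exact Set.eq_univ_of_forall fun y => Subsingleton.elim (α := PrimeSpectrum k) _ _
    let ε : ↥(f.fiber s) ≃ₜ X := (f.fiberι s).isEmbedding.toHomeomorph.trans ((Homeomorph.setCongr hr).trans
      (Homeomorph.Set.univ X))
    exact (IsHomeomorph.topologicalKrullDim_eq _ ε.isHomeomorph).trans hdim
  have hd : ∀ t : X, topologicalKrullDim ↥((pullback.fst f f).fiber t) = 1 := fun t =>
    (FibDimLib.topologicalKrullDim_fiber_baseChange (IsPullback.of_hasPullback f f).flip t).trans (hfib _)
  have hΔ : BlowUp.IsEffCartierIdeal Δ.ker :=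
    RelDualLib.isEffCartier_section (pullback.fst f f) hd Δ (pullback.diagonal_fst f)
  let U : Scheme.{u} := (Δ.coborderRange : Scheme.{u})
  let g : U ⟶ pullback f f := Δ.coborderRange.ι
  let δ : X ⟶ U := PrinPart.diagCl f
  have hδg : δ ≫ g = Δ := Δ.liftCoborder_ι
  haveI : IsIso g := by
    haveI : Surjective g := ⟨fun z => by
      have : z ∈ Δ.coborderRange := by rw [coborderRange_eq_top]; trivial
      exact ⟨⟨z, this⟩, rfl⟩⟩
    exact (isIso_iff_isOpenImmersion_and_epi_base g).2 ⟨inferInstance, (TopCat.epi_iff_surjective _).2 g.surjective⟩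
  letI : U.Over (Spec (CommRingCat.of k)) := ⟨g ≫ pullback.fst f f ≫ f⟩
  haveI : IsProper (U ↘ Spec (CommRingCat.of k)) := inferInstanceAs (IsProper (g ≫ pullback.fst f f ≫ f))
  haveI : IsClosedImmersion δ := inferInstance
  have hδs : δ ≫ (U ↘ Spec (CommRingCat.of k)) = f := by
    show δ ≫ g ≫ pullback.fst f f ≫ f = f
    rw [← Category.assoc, hδg, pullback.diagonal_fst_assoc]
  have hcomap : Δ.ker.comap g = δ.ker := by
    exact SecDivLib.comap_ker_of_isPullback (PrinPartLib.isPullback_of_mono δ g Δ hδg)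
  have hJ : BlowUp.IsEffCartierIdeal δ.ker := hcomap ▸ BlowUpLib.isEffCartier_comap_of_flat g hΔ
  obtain ⟨χ, hχ, -⟩ := PrinPartLib.exists_idealModBC Δ.ker g δ.ker hcomap
  let eΩ : pb δ (ClSub.idealMod δ.ker) ≅ Omega.sheaf f :=
    (Scheme.Modules.pullback δ).mapIso (asIso χ).symm ≪≫
      (Scheme.Modules.pullbackComp δ g).app _ ≪≫ (Scheme.Modules.pullbackCongr hδg).app _
  let F := pb (g ≫ pullback.snd f f) L
  have hF : PicF.IsInvertible F := AmpleDevLib.isInvertible_pb _ hL
  have hδ2 : δ ≫ g ≫ pullback.snd f f = 𝟙 X := by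
    rw [← Category.assoc, hδg, pullback.diagonal_snd]
  let eL : pb δ F ≅ L := (Scheme.Modules.pullbackComp δ (g ≫ pullback.snd f f)).app L ≪≫
    (Scheme.Modules.pullbackCongr hδ2).app L ≪≫ (Scheme.Modules.pullbackId X).app L
  -- the jets, computed on the product
  let I := δ.ker ^ (m + 1)
  let ι := I.subschemeι
  letI : (PrinPart.nbhd f m).Over (Spec (CommRingCat.of k)) := ⟨PrinPart.pr1 f m ≫ f⟩
  haveI := PrinPartLib.isAffineHom_pr1 (f := f) (n := m)
  let G := (Scheme.Modules.pullback (PrinPart.pr2 f m)).obj L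
  haveI : Coh.IsQCoh G := TwistLib.isQCoh_of_isInvertible (AmpleDevLib.isInvertible_pb _ hL)
  have hP : Curv2.euler k X (PrinPart.PMod f m L) = Curv2.euler k (PrinPart.nbhd f m) G :=
    ((PushLinLib.euler_push k (PrinPart.pr1 f m) rfl G).2).symm
  have hQ : Curv2.euler k U (CohB1.tensorMod (ClSub.quotMod I) F) = Curv2.euler k (PrinPart.nbhd f m) G := by
    have hι : ι ≫ (U ↘ Spec (CommRingCat.of k)) = PrinPart.nbhd f m ↘ Spec (CommRingCat.of k) := by
      show ι ≫ g ≫ pullback.fst f f ≫ f = ((ι ≫ g) ≫ pullback.fst f f) ≫ f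
      simp only [Category.assoc]
    let eG : pb ι F ≅ G := (Scheme.Modules.pullbackComp ι (g ≫ pullback.snd f f)).app L ≪≫
      (Scheme.Modules.pullbackCongr (show ι ≫ g ≫ pullback.snd f f = PrinPart.pr2 f m by
        show _ = (ι ≫ g) ≫ pullback.snd f f
        rw [Category.assoc])).app L
    haveI : Coh.IsQCoh (pb ι F) := TwistLib.isQCoh_of_isInvertible (AmpleDevLib.isInvertible_pb _ hF)
    haveI : Coh.IsQCoh (Coh.structureModule I.subscheme) := QCohLib.isQCoh_unit
    haveI := (CurvLib.isCoh_of_isInvertible hF).1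
    let pr := @asIso _ _ _ _ (ProjFormLib.projApp ι F (Coh.structureModule I.subscheme))
      (ProjFormLib.isIso_projApp ι (CurveVBLib.isFinLocFree_of_rank (CurvLib.locFree_of_isInvertible hF)) _)
    refine (CurvLib.euler_congr (HilbPolyLib.swapIso _ _ ≪≫ pr ≪≫ (Coh.push ι).mapIso
      (HilbPolyLib.swapIso _ _ ≪≫ HilbPolyLib.unitLeft _ ≪≫ eG))).trans ?_
    exact ((PushLinLib.euler_push k ι hι G).2).symm
  have hterm : ∀ n : ℕ, Curv2.euler k X (CohB1.tensorMod (CohB1.tensorPow (pb δ (ClSub.idealMod δ.ker)) n) (pb δ F)) =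
      Curv2.deg k X L 1 + Curv2.euler k X (Coh.structureModule X) + (n : ℤ) * (2 * (Curv2.genus k X : ℤ) - 2) := by
    intro n
    obtain ⟨en⟩ := CurveDualLib.nonempty_tensorPow_congr eΩ n
    have hΩ := CurveDualLib.omega_invertible_field k X hdim
    have h1 := GenusZeroLib.deg_tensor k hdim (PicOneLib.isInvertible_tensorPow hΩ n) hL
    rw [CurveDualLib.deg_tensorPow_omega k X hdim n] at h1
    rw [CurvLib.euler_congr (HilbPolyLib.congrLeft en _ ≪≫ HilbPolyLib.congrRight _ eL)]
    simp only [Curv2.deg] at h1 ⊢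
    push_cast at h1 ⊢
    linarith
  have hsum := euler_quot_pow k hδs hJ hF (m + 1)
  rw [hQ, ← hP, Finset.sum_congr rfl (fun n _ => hterm n), Finset.sum_add_distrib, ← Finset.sum_mul,
    two_mul_sum, Finset.sum_const, Finset.card_range] at hsum
  show Curv2.euler k X (PrinPart.PMod f m L) - _ = _
  rw [hsum]
  simp only [nsmul_eq_mul]
  push_cast
  ring

end JetDegLib

end
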